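import Groth.Agent.SteinLib.App
import Groth.Agent.LocFFLib.Basic
import Groth.Agent.CurveVBLib.Integral
import Mathlib

/-!
# Functions along a universally closed birational morphism onto a normal scheme
-/

set_option autoImplicit false
set_option linter.style.haveILetI false
set_option backward.isDefEq.respectTransparency false
set_option backward.isDefEq.respectTransparency.types false

noncomputable section

universe u

open CategoryTheory CategoryTheory.Limits AlgebraicGeometry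

namespace CurveFamNormLib

variable {X Y : Scheme.{u}} (φ : X ⟶ Y)

theorem isIso_app_of_le {U W : Y.Opens} [IsIso (φ ∣_ U)] (h : W ≤ U) : IsIso (φ.app W) := by
  have e : U.ι ''ᵁ (U.ι ⁻¹ᵁ W) = W := by
    rw [Scheme.Hom.image_preimage_eq_opensRange_inf, Scheme.Opens.opensRange_ι]
    exact inf_eq_right.mpr h
  have h1 : IsIso ((φ ∣_ U).app (U.ι ⁻¹ᵁ W)) := inferInstance
  rw [morphismRestrict_app] at h1
  have h2 : IsIso (φ.app (U.ι ''ᵁ (U.ι ⁻¹ᵁ W))) := ((isIso_comp_right_iff _ _).mp h1)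
  have key : ∀ V V' : Y.Opens, V = V' → IsIso (φ.app V) → IsIso (φ.app V') := by
    rintro V V' rfl; exact id
  exact key _ _ e h2

theorem isIso_app_of_birational_normal [IsIntegral X] [IsIntegral Y] (hY : Pi1.IsNormalScheme Y)
    [UniversallyClosed φ] [QuasiSeparated φ] (U : Y.Opens) (hU : (U : Set Y).Nonempty) [IsIso (φ ∣_ U)]
    (V : Y.Opens) : IsIso (φ.app V) := by
  refine SteinLib.isIso_app_of_cover φ (fun W : Y.affineOpens => W.1) (fun W => W.2) (fun z => ?_) (fun W => ?_) V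
  · obtain ⟨W, hW, hzW, -⟩ := exists_isAffineOpen_mem_and_subset (X := Y) (x := z) (U := ⊤) trivial
    exact ⟨⟨W, hW⟩, hzW⟩
  obtain ⟨W, hW⟩ := W
  dsimp only
  rcases isEmpty_or_nonempty W with hE | hne
  · have hbot : W = ⊥ := eq_bot_iff.mpr fun x hx ↦ (hE.false ⟨x, hx⟩).elim
    subst hbot
    haveI : Subsingleton Γ(X, φ ⁻¹ᵁ ⊥) := by rw [Scheme.Hom.preimage_bot]; infer_instance
    exact (ConcreteCategory.isIso_iff_bijective _).mpr ⟨Function.injective_of_subsingleton _, fun y ↦ ⟨0, Subsingleton.elim _ _⟩⟩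
  let W' := W ⊓ U
  haveI : Nonempty W' := by
    obtain ⟨w⟩ := hne
    obtain ⟨x, hxU⟩ := hU
    exact ⟨⟨genericPoint Y, (genericPoint_specializes w.1).mem_open W.2 w.2,
      (genericPoint_specializes x).mem_open U.2 hxU⟩⟩
  haveI : IsIso (φ.app W') := isIso_app_of_le φ (inf_le_right : W' ≤ U)
  haveI : Surjective (φ ∣_ U) := inferInstance
  haveI : Nonempty (φ ⁻¹ᵁ W') := by
    obtain ⟨⟨w, hw⟩⟩ := (inferInstance : Nonempty W')
    obtain ⟨a, ha⟩ := (φ ∣_ U).surjective ⟨w, hw.2⟩
    exact ⟨⟨(φ ⁻¹ᵁ U).ι a, show φ _ ∈ W' by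
      rw [← Scheme.Hom.comp_apply, ← morphismRestrict_ι, Scheme.Hom.comp_apply, ha]; exact hw⟩⟩
  haveI : Nonempty (φ ⁻¹ᵁ W) := ⟨⟨_, (inf_le_left : W' ≤ W) (Classical.arbitrary (φ ⁻¹ᵁ W')).2⟩⟩
  let ψ : Γ(X, φ ⁻¹ᵁ W) →+* Y.functionField :=
    (X.presheaf.map (homOfLE (φ.preimage_mono (inf_le_left : W' ≤ W))).op ≫ inv (φ.app W') ≫ Y.germToFunctionField W').hom
  have hψ : ψ.comp (φ.app W).hom = (Y.germToFunctionField W).hom := by
    rw [← CommRingCat.hom_comp]
    erw [← Scheme.Hom.naturality_assoc φ (homOfLE (inf_le_left : W' ≤ W)).op, IsIso.hom_inv_id_assoc]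
    exact congrArg CommRingCat.Hom.hom (Y.presheaf.germ_res _ _ _)
  have hψi : Function.Injective ψ := by
    rw [show (ψ : Γ(X, φ ⁻¹ᵁ W) → Y.functionField) = (Y.germToFunctionField W') ∘ (inv (φ.app W')) ∘
      (X.presheaf.map (homOfLE (φ.preimage_mono (inf_le_left : W' ≤ W))).op) from rfl]
    exact (Scheme.germToFunctionField_injective Y W').comp
      ((ConcreteCategory.bijective_of_isIso (inv (φ.app W'))).1.comp (map_injective_of_isIntegral X _))
  letI := (Y.germToFunctionField W).hom.toAlgebra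
  haveI : IsFractionRing Γ(Y, W) Y.functionField := functionField_isFractionRing_of_isAffineOpen Y W hW
  haveI := LocFFLib.isIntegrallyClosed_sections hY W
  refine (ConcreteCategory.isIso_iff_bijective _).mpr ⟨fun a b h ↦ ?_, fun b ↦ ?_⟩
  · refine Scheme.germToFunctionField_injective Y W ?_
    show (Y.germToFunctionField W).hom a = (Y.germToFunctionField W).hom b
    rw [← hψ]; exact congrArg ψ h
  · obtain ⟨P, hP, hb⟩ := SteinLib.isIntegral_app φ hW b
    have hint : IsIntegral Γ(Y, W) (ψ b) := by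
      refine ⟨P, hP, ?_⟩
      have := congrArg ψ hb
      rw [map_zero, Polynomial.hom_eval₂, hψ] at this
      exact this
    obtain ⟨a, ha⟩ := IsIntegrallyClosed.isIntegral_iff.mp hint
    refine ⟨a, hψi ?_⟩
    rw [← ha]
    exact congrArg (fun g : Γ(Y, W) →+* Y.functionField => g a) hψ

end CurveFamNormLib
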