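import Groth.Agent.GeomRedFibLib.LocalPropLocal
import Groth.Agent.FlatLib.FibreStalk
import Groth.Agent.DimIneqLib.Dim
import Groth.Agent.SkTensLib.Basic
import Groth.Agent.AssPointLib.S1
import Groth.Agent.S1535
import Groth.Prelude.Def_Pi1
import Mathlib

/-!
# Normality of the total space of a family with reduced fibres of dimension at most one
-/

set_option autoImplicit false
set_option linter.style.haveILetI false
set_option backward.isDefEq.respectTransparency false
set_option backward.isDefEq.respectTransparency.types false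

noncomputable section

universe u

open CategoryTheory CategoryTheory.Limits AlgebraicGeometry IsLocalRing

namespace CurveFamNormLib

open GeomRedFibLib

theorem regular_of_reduced_dim_zero (R : Type u) [CommRing R] [IsNoetherianRing R] [IsLocalRing R] [IsReduced R]
    (h : ringKrullDim R ≤ 0) : IsRegularLocalRing R := by
  haveI : Ring.KrullDimLE 0 R := Ring.krullDimLE_iff.mpr (by simpa using h)
  letI := (Ring.KrullDimLE.isField_of_isReduced (R := R)).toField
  infer_instance

theorem skLoc_two_of_reduced_dim_one (R : Type u) [CommRing R] [IsNoetherianRing R] [IsLocalRing R] [IsReduced R]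
    (h : ringKrullDim R ≤ 1) : SkLoc 2 R := by
  refine ⟨inferInstance, inferInstance, ?_⟩
  rw [min_eq_right (h.trans (by norm_num))]
  obtain ⟨d, hd⟩ := CommAlgDim.exists_ringKrullDim_eq (R := R)
  rw [hd] at h ⊢
  rcases Nat.eq_zero_or_pos d with rfl | hd0
  · exact WithBot.coe_le_coe.2 bot_le
  obtain rfl : d = 1 := le_antisymm (by exact_mod_cast h) hd0
  refine WithBot.coe_le_coe.2 ?_
  rw [Nat.cast_one, AssPointLib.one_le_depth_iff]
  intro hass
  obtain ⟨hp, x, hx⟩ := isAssociatedPrime_iff.mp hass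
  have hann : ∀ r ∈ maximalIdeal R, r * x = 0 := fun r hr ↦ by simpa [smul_eq_mul] using hx.le hr
  by_cases hxu : IsUnit x
  · have h0 : maximalIdeal R = ⊥ := (Submodule.eq_bot_iff _).mpr fun r hr ↦ hxu.mul_left_eq_zero.mp (hann r hr)
    have hF : IsField R := IsLocalRing.isField_iff_maximalIdeal_eq.mpr h0
    rw [ringKrullDim_eq_zero_of_isField hF] at hd
    exact absurd hd (by norm_num)
  · have hx0 : x = 0 := IsNilpotent.eq_zero ⟨2, by rw [pow_two]; exact hann x ((mem_maximalIdeal x).mpr hxu)⟩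
    subst hx0
    exact (maximalIdeal.isMaximal R).ne_top (top_unique fun r _ ↦ hx.ge (by simp))

theorem normal_at {A B : Type u} [CommRing A] [IsNoetherianRing A] [IsDomain A] [CommRing B] [IsNoetherianRing B]
    [Algebra A B] [Module.Flat A B]
    (hA : ∀ (p : Ideal A) [p.IsPrime], IsDomain (Localization.AtPrime p) ∧ IsIntegrallyClosed (Localization.AtPrime p))
    (hred : ∀ (r : Ideal B) [r.IsPrime], IsReduced (EGA4.FibLocRing A B r))
    (hdim : ∀ (r : Ideal B) [r.IsPrime], ringKrullDim (EGA4.FibLocRing A B r) ≤ 1)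
    (hgen : ∀ (r : Ideal B) [r.IsPrime], r.comap (algebraMap A B) = ⊥ → IsRegularLocalRing (EGA4.FibLocRing A B r))
    (q : Ideal B) [q.IsPrime] :
    IsDomain (Localization.AtPrime q) ∧ IsIntegrallyClosed (Localization.AtPrime q) := by
  have hp : ∀ (p : Ideal A) [p.IsPrime], RingP (RkLoc 1) (Localization.AtPrime p) ∧ RingP (SkLoc 2) (Localization.AtPrime p) :=
    fun p _ ↦ (normal_local_iff _).mp (hA p)
  rw [normal_local_iff, ringP_localization_iff (isFlatLocalProp_rkLoc 1), ringP_localization_iff (isFlatLocalProp_skLoc 2)]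
  refine ⟨fun r _ _ hd ↦ ?_, fun r _ _ ↦ ?_⟩
  · haveI := hred r
    haveI : IsLocalRing (EGA4.FibLocRing A B r) := SkTensLib.isLocalRing_fib A B r
    let p := r.comap (algebraMap A B)
    haveI : r.LiesOver p := ⟨rfl⟩
    letI := Localization.AtPrime.algebraOfLiesOver p r
    haveI : IsLocalHom (algebraMap (Localization.AtPrime p) (Localization.AtPrime r)) :=
      inferInstanceAs (IsLocalHom (Localization.localRingHom p r (algebraMap A B) rfl))
    haveI : Module.Flat (Localization.AtPrime p) (Localization.AtPrime r) :=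
      RingHom.flat_algebraMap_iff.mp <| RingHom.Flat.localRingHom (RingHom.flat_algebraMap_iff.mpr ‹_›) ..
    have e : (maximalIdeal (Localization.AtPrime p)).map (algebraMap (Localization.AtPrime p) (Localization.AtPrime r)) =
        p.map (algebraMap A (Localization.AtPrime r)) := by
      rw [← IsLocalization.AtPrime.map_eq_maximalIdeal p (Localization.AtPrime p), Ideal.map_map,
        ← IsScalarTower.algebraMap_eq]
    have hsum := CatLib.ringKrullDim_eq_add_of_flat (A := Localization.AtPrime p) (B := Localization.AtPrime r)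
    rw [ringKrullDim_eq_of_ringEquiv (Ideal.quotEquivOfEq e)] at hsum
    obtain ⟨a, ha⟩ := CommAlgDim.exists_ringKrullDim_eq (R := Localization.AtPrime p)
    obtain ⟨c, hc⟩ := CommAlgDim.exists_ringKrullDim_eq (R := EGA4.FibLocRing A B r)
    rw [hsum, ha, show ringKrullDim (Localization.AtPrime r ⧸ p.map (algebraMap A (Localization.AtPrime r))) = _ from hc] at hd
    have hac : a + c ≤ 1 := by exact_mod_cast hd
    refine asc_at isFlatLocalProp_regular A B r ?_ ?_
    · exact ringP_at_maximalIdeal (isFlatLocalProp_rkLoc 1) (hp p).1 (by rw [ha]; exact_mod_cast (show a ≤ 1 by omega))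
    · rcases Nat.eq_zero_or_pos a with rfl | ha0
      · refine hgen r ?_
        have hh : (p.height : WithBot ℕ∞) = 0 := by
          rw [← IsLocalization.AtPrime.ringKrullDim_eq_height p (Localization.AtPrime p), ha]; rfl
        simpa [IsDomain.minimalPrimes_eq_singleton_bot] using (Ideal.height_eq_zero_iff (I := p)).mp (by exact_mod_cast hh)
      · exact regular_of_reduced_dim_zero _ (by rw [hc]; exact_mod_cast (show c ≤ 0 by omega))
  · haveI := hred r
    haveI : IsLocalRing (EGA4.FibLocRing A B r) := SkTensLib.isLocalRing_fib A B r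
    exact asc_at (isFlatLocalProp_skLoc 2) A B r
      (ringP_at_maximalIdeal (isFlatLocalProp_skLoc 2) (hp _).2) (skLoc_two_of_reduced_dim_one _ (hdim r))

theorem isNormalScheme_of_reduced_fibres {S C : Scheme.{u}} [IsIntegral S] [IsLocallyNoetherian S]
    [IsLocallyNoetherian C] (hS : Pi1.IsNormalScheme S) (f : C ⟶ S) [Flat f]
    (hred : ∀ s : S, IsReduced (f.fiber s))
    (hdim : ∀ (s : S), topologicalKrullDim (f.fiber s) ≤ 1)
    (hgen : ∀ y : f.fiber (genericPoint S), IsRegularLocalRing ((f.fiber (genericPoint S)).presheaf.stalk y)) :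
    Pi1.IsNormalScheme C := by
  intro x
  obtain ⟨_, ⟨U : S.Opens, hU, rfl⟩, hxU, -⟩ :=
    S.isBasis_affineOpens.exists_subset_of_mem_open (Set.mem_univ (f x)) isOpen_univ
  obtain ⟨_, ⟨V : C.Opens, hV, rfl⟩, hxV, hVU⟩ :=
    C.isBasis_affineOpens.exists_subset_of_mem_open (show x ∈ f ⁻¹ᵁ U from hxU) (f ⁻¹ᵁ U).2
  haveI := IsLocallyNoetherian.component_noetherian ⟨U, hU⟩
  haveI := IsLocallyNoetherian.component_noetherian ⟨V, hV⟩
  haveI : Nonempty U := ⟨⟨_, hxU⟩⟩
  letI := (f.appLE U V hVU).hom.toAlgebra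
  haveI : Module.Flat Γ(S, U) Γ(C, V) := RingHom.flat_algebraMap_iff.mp (Flat.flat_appLE f hU hV hVU)
  have hA : ∀ (p : Ideal Γ(S, U)) [p.IsPrime], IsDomain (Localization.AtPrime p) ∧ IsIntegrallyClosed (Localization.AtPrime p) := by
    intro p _
    let s : U := ⟨hU.fromSpec ⟨p, inferInstance⟩, hU.range_fromSpec.le ⟨_, rfl⟩⟩
    letI := S.presheaf.algebra_section_stalk s
    haveI := hU.isLocalization_stalk s
    have hs : hU.primeIdealOf s = ⟨p, inferInstance⟩ :=
      hU.fromSpec.isOpenEmbedding.injective (hU.fromSpec_primeIdealOf s)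
    haveI : IsLocalization.AtPrime (S.presheaf.stalk s.1) p := by
      have := hU.isLocalization_stalk s; rw [hs] at this; exact this
    let e := (IsLocalization.algEquiv p.primeCompl (S.presheaf.stalk s.1) (Localization.AtPrime p)).toRingEquiv
    haveI := (hS s.1).1; haveI := (hS s.1).2
    exact ⟨e.symm.injective.isDomain e.symm.toRingHom, IsIntegrallyClosed.of_equiv e⟩
  have hfib : ∀ (r : Ideal Γ(C, V)) [r.IsPrime], ∃ (x' : C) (hx' : x' ∈ V),
      Nonempty ((f.fiber (f x')).presheaf.stalk (f.asFiber x') ≃+* EGA4.FibLocRing Γ(S, U) Γ(C, V) r) ∧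
      (r.comap (algebraMap Γ(S, U) Γ(C, V)) = ⊥ → f x' = genericPoint S) := by
    intro r _
    let x' : V := ⟨hV.fromSpec ⟨r, inferInstance⟩, hV.range_fromSpec.le ⟨_, rfl⟩⟩
    have hx' : hV.primeIdealOf x' = ⟨r, inferInstance⟩ :=
      hV.fromSpec.isOpenEmbedding.injective (hV.fromSpec_primeIdealOf x')
    obtain ⟨e⟩ := FlatLib.nonempty_fibreStalk_ringEquiv f hU hV hVU rfl x'.1 x'.2
    have key : ∀ (P Q : PrimeSpectrum Γ(C, V)), P = Q →
        Nonempty ((Localization.AtPrime P.asIdeal ⧸ (P.asIdeal.comap (algebraMap Γ(S, U) Γ(C, V))).map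
            (algebraMap Γ(S, U) (Localization.AtPrime P.asIdeal))) ≃+* EGA4.FibLocRing Γ(S, U) Γ(C, V) Q.asIdeal) := by
      rintro P Q rfl; exact ⟨RingEquiv.refl _⟩
    obtain ⟨e'⟩ := key _ _ hx'
    refine ⟨x'.1, x'.2, ⟨e.trans e'⟩, fun h0 ↦ ?_⟩
    have h2 : hU.primeIdealOf ⟨f x'.1, hVU x'.2⟩ = ⟨⊥, Ideal.isPrime_bot⟩ := by
      rw [← IsAffineOpen.comap_primeIdealOf_appLE U hU V hV hVU x'.2, hx']
      exact PrimeSpectrum.ext h0
    have h3 := hU.fromSpec_primeIdealOf ⟨f x'.1, hVU x'.2⟩
    rw [h2] at h3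
    refine h3.symm.trans ?_
    have hgp : genericPoint (Spec Γ(S, U)) = (⟨⊥, Ideal.isPrime_bot⟩ : PrimeSpectrum Γ(S, U)) :=
      genericPoint_eq_bot_of_affine _
    rw [← hgp]
    exact genericPoint_eq_of_isOpenImmersion hU.fromSpec
  have key := normal_at (A := Γ(S, U)) (B := Γ(C, V)) hA
    (fun r _ ↦ by
      obtain ⟨x', _, ⟨e⟩, -⟩ := hfib r
      haveI := hred (f x')
      exact isReduced_of_injective e.symm.toRingHom e.symm.injective)
    (fun r _ ↦ by
      obtain ⟨x', _, ⟨e⟩, -⟩ := hfib r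
      rw [← ringKrullDim_eq_of_ringEquiv e]
      exact (DimIneqLib.stalk_dim_le_dim _).trans (hdim _))
    (fun r _ h0 ↦ by
      obtain ⟨x', _, ⟨e⟩, hg⟩ := hfib r
      have hh : ∀ (s : S), s = genericPoint S → ∀ y : f.fiber s, IsRegularLocalRing ((f.fiber s).presheaf.stalk y) := by
        rintro s rfl y; exact hgen y
      haveI := hh _ (hg h0) (f.asFiber x')
      exact IsRegularLocalRing.of_ringEquiv e)
    (hV.primeIdealOf ⟨x, hxV⟩).asIdeal
  letI := C.presheaf.algebra_section_stalk ⟨x, hxV⟩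
  haveI := hV.isLocalization_stalk ⟨x, hxV⟩
  let e := (IsLocalization.algEquiv (hV.primeIdealOf ⟨x, hxV⟩).asIdeal.primeCompl
    (C.presheaf.stalk x) (Localization.AtPrime (hV.primeIdealOf ⟨x, hxV⟩).asIdeal)).toRingEquiv
  haveI := key.1; haveI := key.2
  exact ⟨e.injective.isDomain e.toRingHom, IsIntegrallyClosed.of_equiv e.symm⟩

end CurveFamNormLib
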