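import Groth.Agent.CycP1Lib.Graph
import Groth.Agent.ModifLib.Norm
import Mathlib

/-!
# Local rings of an integral scheme inside a fixed function field
-/

set_option autoImplicit false
set_option linter.style.haveILetI false
set_option backward.isDefEq.respectTransparency false
set_option backward.isDefEq.respectTransparency.types false

noncomputable section

universe u

open CategoryTheory CategoryTheory.Limits AlgebraicGeometry IsLocalRing

namespace CurveFamNormLib

variable {C Z X : Scheme.{u}} [IsIntegral C]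

/-- The map from a local ring to the function field of `C`. -/
def gk (j : C ⟶ Z) (z : Z) (h : j (genericPoint C) ⤳ z) :
    Z.presheaf.stalk z ⟶ C.presheaf.stalk (genericPoint C) :=
  Z.presheaf.stalkSpecializes h ≫ j.stalkMap (genericPoint C)

theorem specMap_gk (j : C ⟶ Z) (z : Z) (h : j (genericPoint C) ⤳ z) :
    Spec.map (gk j z h) ≫ Z.fromSpecStalk z = C.fromSpecStalk (genericPoint C) ≫ j := by
  rw [gk, Spec.map_comp, Category.assoc, Scheme.SpecMap_stalkSpecializes_fromSpecStalk,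
    Scheme.SpecMap_stalkMap_fromSpecStalk]

theorem gk_congr {j j' : C ⟶ Z} (e : j = j') (z : Z) (h : j (genericPoint C) ⤳ z)
    (h' : j' (genericPoint C) ⤳ z) : gk j z h = gk j' z h' := by
  subst e; rfl

theorem gk_comp (j : C ⟶ Z) (p : Z ⟶ X) (γ : Z) (h : j (genericPoint C) ⤳ γ)
    (hx : (j ≫ p) (genericPoint C) ⤳ p γ) : p.stalkMap γ ≫ gk j γ h = gk (j ≫ p) (p γ) hx := by
  rw [gk, gk, ← Scheme.Hom.stalkSpecializes_stalkMap_assoc p _ _ h, Scheme.Hom.stalkMap_comp]

theorem gk_injective [IsIntegral Z] (j : C ⟶ Z) (hj : j (genericPoint C) = genericPoint Z) (z : Z)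
    (h : j (genericPoint C) ⤳ z) : Function.Injective (gk j z h).hom := by
  have key : ∀ η : Z, η = genericPoint Z → ∀ hs : η ⤳ z, Function.Injective (Z.presheaf.stalkSpecializes hs) ∧
      IsField (Z.presheaf.stalk η) := by
    rintro η rfl hs
    exact ⟨IsFractionRing.injective (Z.presheaf.stalk z) Z.functionField, Field.toIsField Z.functionField⟩
  obtain ⟨h1, h2⟩ := key _ hj h
  letI := h2.toField
  intro a b hab
  exact h1 (((j.stalkMap (genericPoint C)).hom).injective hab)

/-- A local ring dominating the local ring at `ξ` inside the function field has centre `ξ`. -/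
theorem centre_unique [IsIntegral Z] [X.IsSeparated] (j : C ⟶ Z) (hj : j (genericPoint C) = genericPoint Z)
    (p : Z ⟶ X) (γ : Z) (hγ : j (genericPoint C) ⤳ γ) (ξ : X) (hξ : (j ≫ p) (genericPoint C) ⤳ ξ)
    (φ : X.presheaf.stalk ξ ⟶ Z.presheaf.stalk γ) [IsLocalHom φ.hom] (hφ : φ ≫ gk j γ hγ = gk (j ≫ p) ξ hξ) :
    p γ = ξ := by
  haveI : IsDominant (Spec.map (gk j γ hγ)) := ⟨(PrimeSpectrum.denseRange_comap_iff_ker_le_nilRadical _).2 (by
    rw [(RingHom.injective_iff_ker_eq_bot _).1 (gk_injective j hj γ hγ)]; exact bot_le)⟩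
  have he : Spec.map φ ≫ X.fromSpecStalk ξ = Z.fromSpecStalk γ ≫ p := by
    refine ext_of_isDominant (Spec.map (gk j γ hγ)) ?_
    rw [← Spec.map_comp_assoc, hφ, specMap_gk, ← Category.assoc, ← Category.assoc, specMap_gk]
  have := congrArg (fun g : Spec (Z.presheaf.stalk γ) ⟶ X => g (closedPoint _)) he
  simp only [Scheme.Hom.comp_apply, Scheme.fromSpecStalk_closedPoint] at this
  rw [← this]
  show X.fromSpecStalk ξ (PrimeSpectrum.comap φ.hom (closedPoint _)) = ξ
  rw [IsLocalRing.comap_closedPoint, Scheme.fromSpecStalk_closedPoint]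

/-- A valuation ring of the function field is maximal for domination. -/
theorem bijective_stalkMap_of_valuationRing [IsIntegral X] [IsIntegral Z] (j : C ⟶ Z)
    (hj : j (genericPoint C) = genericPoint Z) (p : Z ⟶ X) (hjp : (j ≫ p) (genericPoint C) = genericPoint X)
    [IsIso ((j ≫ p).stalkMap (genericPoint C))] (γ : Z) (h : j (genericPoint C) ⤳ γ)
    [ValuationRing (X.presheaf.stalk (p γ))] : Function.Bijective (p.stalkMap γ).hom := by
  have hx : (j ≫ p) (genericPoint C) ⤳ p γ := h.map p.continuous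
  have hc := gk_comp j p γ h hx
  have hi := gk_injective (j ≫ p) hjp (p γ) hx
  have hiγ := gk_injective j hj γ h
  have hc' : ∀ a, (gk j γ h).hom ((p.stalkMap γ).hom a) = (gk (j ≫ p) (p γ) hx).hom a := fun a =>
    congrArg (fun g : X.presheaf.stalk (p γ) ⟶ C.presheaf.stalk (genericPoint C) => g a) hc
  refine ⟨fun a b hab => hi (by rw [← hc', ← hc', hab]), fun b => ?_⟩
  have hfrac : ∀ k, ∃ a c : X.presheaf.stalk (p γ), (gk (j ≫ p) (p γ) hx).hom c ≠ 0 ∧
      k * (gk (j ≫ p) (p γ) hx).hom c = (gk (j ≫ p) (p γ) hx).hom a := by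
    have key : ∀ η : X, η = genericPoint X → ∀ hs : η ⤳ p γ, ∀ w : X.presheaf.stalk η,
        ∃ a c : X.presheaf.stalk (p γ), c ≠ 0 ∧
          w * X.presheaf.stalkSpecializes hs c = X.presheaf.stalkSpecializes hs a := by
      rintro η rfl hs w
      obtain ⟨a, c, hc, rfl⟩ := IsFractionRing.div_surjective (X.presheaf.stalk (p γ)) (K := X.functionField) w
      have hne : algebraMap _ X.functionField c ≠ 0 := IsFractionRing.to_map_ne_zero_of_mem_nonZeroDivisors hc
      exact ⟨a, c, nonZeroDivisors.ne_zero hc, div_mul_cancel₀ _ hne⟩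
    intro k
    obtain ⟨w, rfl⟩ := (ConcreteCategory.bijective_of_isIso ((j ≫ p).stalkMap (genericPoint C))).2 k
    obtain ⟨a, c, hc0, hw⟩ := key _ hjp hx w
    refine ⟨a, c, fun h0 => hc0 (hi (h0.trans (map_zero _).symm)), ?_⟩
    exact (map_mul _ _ _).symm.trans (congrArg ((j ≫ p).stalkMap (genericPoint C)).hom hw)
  obtain ⟨a, c, hc0, hk⟩ := hfrac ((gk j γ h).hom b)
  rw [← hc' c, ← hc' a, ← map_mul] at hk
  have hk' := hiγ hk
  have hpc : (p.stalkMap γ).hom c ≠ 0 := fun h0 => hc0 (by rw [← hc', h0, map_zero])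
  rcases ValuationRing.dvd_total c a with ⟨d, rfl⟩ | ⟨e, rfl⟩
  · refine ⟨d, ?_⟩
    rw [map_mul, mul_comm b] at hk'
    exact (mul_left_cancel₀ hpc hk').symm
  · rw [map_mul, ← mul_assoc, mul_comm b, mul_assoc] at hk'
    have ha0 : (p.stalkMap γ).hom a ≠ 0 := fun h0 => hpc (by rw [map_mul, h0, zero_mul])
    have h1 : b * (p.stalkMap γ).hom e = 1 := mul_left_cancel₀ ha0 (hk'.trans (mul_one _).symm)
    obtain ⟨d, rfl⟩ := (isUnit_map_iff (p.stalkMap γ).hom e).mp (IsUnit.of_mul_eq_one b (by rw [mul_comm]; exact h1))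
    refine ⟨↑d⁻¹, ?_⟩
    have h2 : (p.stalkMap γ).hom ↑d⁻¹ * (p.stalkMap γ).hom ↑d = 1 := by rw [← map_mul, Units.inv_mul, map_one]
    exact mul_right_cancel₀ ((d.isUnit.map (p.stalkMap γ).hom).ne_zero) (h2.trans h1.symm)

end CurveFamNormLib
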