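import Groth.Agent.S0386
import Groth.Agent.BlowRegLib.GoingDownFibre
import Groth.Agent.UnramGULib.Scheme
import Groth.Agent.DimIneqLib.Dim
import Groth.Prelude.Def_Pi1
import Mathlib

/-!
# Finite surjective morphisms of normal schemes are flat in codimension one
-/

set_option autoImplicit false
set_option linter.style.haveILetI false
set_option backward.isDefEq.respectTransparency false
set_option backward.isDefEq.respectTransparency.types false

noncomputable section

universe u

open CategoryTheory CategoryTheory.Limits AlgebraicGeometry Order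

namespace CurveFamNormLib

variable {X Y : Scheme.{u}} (f : X ⟶ Y) [IsIntegral X] [IsIntegral Y] [IsFinite f] [Surjective f]
  [IsLocallyNoetherian Y] (hY : Pi1.IsNormalScheme Y)

include hY in
theorem flat_stalkMap_of_coheight_le_one (x : X) (h : coheight (f x) ≤ 1) : (f.stalkMap x).hom.Flat := by
  have hinj : Function.Injective (f.stalkMap x).hom := by
    obtain ⟨x', hx', hx''⟩ := BlowRegLib.generalizingMap_of_finite f (fun y => (hY y).2)
      (genericPoint_specializes (f x))
    exact UnramGULib.injective_stalkMap_of_generization f hx' hx''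
  haveI := (hY (f x)).1
  haveI := (hY (f x)).2
  haveI : Ring.KrullDimLE 1 (Y.presheaf.stalk (f x)) := krullDimLE_of_coheight_le h
  haveI : Ring.DimensionLEOne (Y.presheaf.stalk (f x)) := ⟨fun {p} hp0 hp => Ring.krullDimLE_one_iff_of_noZeroDivisors.mp inferInstance p hp0 hp⟩
  haveI : IsDedekindDomain (Y.presheaf.stalk (f x)) := { }
  letI := (f.stalkMap x).hom.toAlgebra
  rw [← RingHom.algebraMap_toAlgebra (f.stalkMap x).hom, RingHom.flat_algebraMap_iff,
    IsDedekindDomain.flat_iff_torsion_eq_bot, eq_bot_iff]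
  rintro b ⟨⟨a, ha⟩, hab⟩
  have hab' : (f.stalkMap x).hom a * b = 0 := hab
  rcases mul_eq_zero.mp hab' with h0 | h0
  · exact absurd (hinj (h0.trans (map_zero _).symm)) (nonZeroDivisors.ne_zero ha)
  · exact (Submodule.mem_bot _).mpr h0

include hY in
theorem exists_flat_open [CompactSpace Y] (hdX : topologicalKrullDim X ≤ 2) (hdY : topologicalKrullDim Y ≤ 2) :
    ∃ V : Y.Opens, ((V : Set Y)ᶜ).Finite ∧ (∀ y : Y, y ∉ V → ringKrullDim (Y.presheaf.stalk y) = 2) ∧
      (((f ⁻¹ᵁ V : X.Opens) : Set X)ᶜ).Finite ∧ (∀ x : X, x ∉ f ⁻¹ᵁ V → ringKrullDim (X.presheaf.stalk x) = 2) ∧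
      Flat (f ∣_ V) := by
  haveI : IsNoetherian Y := {}
  let N : Set X := {x : X | (f.stalkMap x).hom.Flat}ᶜ
  have hN : IsClosed N := (Groth.Agent.S0386.result f).isClosed_compl
  let V : Y.Opens := ⟨(f '' N)ᶜ, (f.isClosedMap N hN).isOpen_compl⟩
  have hmax : ∀ y : Y, y ∉ V → 2 ≤ coheight y := by
    intro y hy
    obtain ⟨x, hx, rfl⟩ : y ∈ f '' N := by
      by_contra hc; exact hy hc
    by_contra hc
    refine hx (flat_stalkMap_of_coheight_le_one f hY x ?_)
    have hlt := not_le.mp hc
    rw [show (2 : ℕ∞) = 1 + 1 from by norm_num] at hlt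
    exact (ENat.lt_add_one_iff ENat.one_ne_top).mp hlt
  have hdim : ∀ y : Y, (coheight y : WithBot ℕ∞) ≤ 2 := fun y => by
    rw [← ringKrullDim_stalk_eq_coheight]
    exact (DimIneqLib.stalk_dim_le_dim y).trans hdY
  have hVfin : ((V : Set Y)ᶜ).Finite := by
    have hc : IsClosed ((V : Set Y)ᶜ) := V.2.isClosed_compl
    have hpts : ∀ y ∈ ((V : Set Y)ᶜ), IsClosed ({y} : Set Y) := fun y hy => by
      rw [← closure_subset_iff_isClosed]
      intro z hz
      by_contra hne
      have hs : y ⤳ z := specializes_iff_mem_closure.mpr hz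
      have hlt : z < y := lt_of_le_not_ge (Scheme.le_iff_specializes.mpr hs) (fun e => hne (Set.mem_singleton_iff.mpr ((Scheme.le_iff_specializes.mp e).antisymm hs).eq))
      have h1 := coheight_add_one_le hlt
      have h2 : coheight z ≤ 2 := WithBot.coe_le_coe.mp (hdim z)
      have h3 : (3 : ℕ∞) ≤ 2 := le_trans (le_trans (by norm_num) (add_le_add (hmax y hy) le_rfl)) (h1.trans h2)
      norm_num at h3
    obtain ⟨S, hS, hSi, hSu⟩ := TopologicalSpace.NoetherianSpace.exists_finite_set_closeds_irreducible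
      (⟨_, hc⟩ : TopologicalSpace.Closeds Y)
    refine (hS.biUnion (t := fun t : TopologicalSpace.Closeds Y => (t : Set Y)) fun t ht => ?_).subset ?_
    · obtain ⟨η, hη⟩ := QuasiSober.sober (hSi t ht) t.2
      have hηV : η ∈ ((V : Set Y)ᶜ) := by
        have : t ≤ (⟨_, hc⟩ : TopologicalSpace.Closeds Y) := hSu ▸ le_sSup ht
        exact this hη.mem
      rw [← hη.def, (hpts η hηV).closure_eq]
      exact Set.finite_singleton η
    · intro y hy
      have h' : y ∈ ((sSup S : TopologicalSpace.Closeds Y) : Set Y) := by rw [← hSu]; exact hy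
      rw [TopologicalSpace.Closeds.coe_sSup, Set.sUnion_image] at h'
      erw [(hS.isClosed_biUnion fun t _ => t.2).closure_eq] at h'
      simpa using h'
  refine ⟨V, hVfin, fun y hy => ?_, ?_, fun x hx => ?_, ?_⟩
  · rw [ringKrullDim_stalk_eq_coheight]
    exact le_antisymm (hdim y) (WithBot.coe_le_coe.mpr (hmax y hy))
  · show ((f ⁻¹' (V : Set Y))ᶜ).Finite
    rw [← Set.preimage_compl]
    exact f.finite_preimage hVfin
  · rw [ringKrullDim_stalk_eq_coheight]
    refine le_antisymm ?_ (WithBot.coe_le_coe.mpr ?_)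
    · rw [← ringKrullDim_stalk_eq_coheight]
      exact (DimIneqLib.stalk_dim_le_dim x).trans hdX
    obtain ⟨p, hp0, hpl⟩ := Order.exists_series_of_le_coheight (f x) (hmax (f x) hx)
    obtain ⟨_ | _ | _ | n, pf, ps⟩ := p
    · simp at hpl
    · simp at hpl
    swap
    · simp at hpl
    let y1 := pf 1
    let y2 := pf 2
    have h01 : f x < y1 := hp0 ▸ ps 0
    have h12 : y1 < y2 := ps 1
    obtain ⟨x1, hx1, hfx1⟩ := BlowRegLib.generalizingMap_of_finite f (fun y => (hY y).2)
      (Scheme.le_iff_specializes.mp h01.le)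
    obtain ⟨x2, hx2, hfx2⟩ := BlowRegLib.generalizingMap_of_finite f (fun y => (hY y).2)
      (show y2 ⤳ f x1 by rw [hfx1]; exact Scheme.le_iff_specializes.mp h12.le)
    have l1 : x < x1 := lt_of_le_not_ge (Scheme.le_iff_specializes.mpr hx1) (fun e => h01.ne (by rw [← hfx1, (hx1.antisymm (Scheme.le_iff_specializes.mp e)).eq]))
    have l2 : x1 < x2 := lt_of_le_not_ge (Scheme.le_iff_specializes.mpr hx2) (fun e => h12.ne (by rw [← hfx1, ← hfx2, (hx2.antisymm (Scheme.le_iff_specializes.mp e)).eq]))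
    calc (2 : ℕ∞) = 0 + 1 + 1 := by norm_num
      _ ≤ coheight x2 + 1 + 1 := by gcongr; exact bot_le
      _ ≤ coheight x1 + 1 := by gcongr; exact coheight_add_one_le l2
      _ ≤ coheight x := coheight_add_one_le l1
  · refine Flat.of_stalkMap (f ∣_ V) fun z => ?_
    refine (RingHom.Flat.respectsIso.arrow_mk_iso_iff (morphismRestrictStalkMap f V z)).mpr ?_
    by_contra hc
    exact z.2 ⟨z.1, hc, rfl⟩

end CurveFamNormLib
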