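import Groth.Agent.S0554
import Groth.Agent.DimTrdegLib.Basic
import Groth.Agent.QuotSchLib.DvrExt
import Groth.Agent.DimIneqLib.Scheme
import Mathlib

/-!
# Dimension of an integral flat model of a curve over a discrete valuation ring
-/

set_option autoImplicit false
set_option linter.style.haveILetI false
set_option backward.isDefEq.respectTransparency false
set_option backward.isDefEq.respectTransparency.types false
set_option maxHeartbeats 1000000

noncomputable section

universe u

open CategoryTheory CategoryTheory.Limits AlgebraicGeometry IsLocalRing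

namespace CurveFamNormLib

variable {R : Type u} [CommRing R] [IsDomain R] [IsDiscreteValuationRing R]

theorem range_of_isPullback {P X Y Z : Scheme.{u}} {fst : P ⟶ X} {snd : P ⟶ Y} {f : X ⟶ Z} {g : Y ⟶ Z}
    (sq : IsPullback fst snd f g) : Set.range fst = f ⁻¹' Set.range g := by
  rw [← sq.isoPullback_hom_fst, Scheme.Hom.comp_base, TopCat.coe_comp,
    Set.range_comp, Set.range_eq_univ.mpr sq.isoPullback.hom.surjective, Set.image_univ, Scheme.Pullback.range_fst]

theorem ringKrullDim_le_two_of_generic_le_one (B : Type u) [CommRing B] [IsDomain B] [Algebra R B]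
    [Algebra.FiniteType R B] [FaithfulSMul R B] (h : ringKrullDim ((⊥ : Ideal R).Fiber B) ≤ 1) :
    ringKrullDim B ≤ 2 := by
  obtain ⟨t, ht, htr⟩ := DimTrdegLib.dim_generic_fibre (A := R) (C := B)
  rw [ht] at h
  have ht1 : t ≤ 1 := by exact_mod_cast h
  rw [ringKrullDim_le_iff_height_le]
  intro q hq
  haveI : IsNoetherianRing B := Algebra.FiniteType.isNoetherianRing R B
  haveI : q.LiesOver (q.comap (algebraMap R B)) := ⟨rfl⟩
  have hb := Groth.Agent.S0554.result R B (q.comap (algebraMap R B)) q
  rw [htr] at hb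
  have hp1 : (q.comap (algebraMap R B)).height ≤ 1 := by
    have h1 := Ideal.height_le_ringKrullDim_of_ne_top (Ideal.IsPrime.ne_top (inferInstance : (q.comap (algebraMap R B)).IsPrime))
    rw [IsDiscreteValuationRing.ringKrullDim_eq_one] at h1
    exact_mod_cast h1
  obtain ⟨n, hn⟩ := ENat.ne_top_iff_exists.mp (Ideal.height_ne_top (I := q) Ideal.IsPrime.ne_top')
  obtain ⟨m, hm⟩ := ENat.ne_top_iff_exists.mp (ne_top_of_le_ne_top ENat.one_ne_top hp1)
  rw [← hn, ← hm] at hb
  rw [← hm] at hp1
  rw [← hn]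
  have hm1 : m ≤ 1 := by exact_mod_cast hp1
  have h2 : (n : Cardinal.{u}) ≤ ((m + t : ℕ) : Cardinal.{u}) := by
    refine le_trans (le_trans (le_of_eq ?_) (self_le_add_right _ _)) (hb.trans (le_of_eq ?_))
    · rfl
    · push_cast; rfl
  have h3 : n ≤ m + t := by exact_mod_cast h2
  exact Nat.cast_le.mpr (show n ≤ 2 by omega) |>.trans (by norm_num)

theorem coheight_le_two {X C : Scheme.{u}} [IsIntegral X] (p : X ⟶ Spec (CommRingCat.of R)) [Flat p]
    [LocallyOfFiniteType p] {fC : C ⟶ Spec (CommRingCat.of (FractionRing R))} {i : C ⟶ X}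
    (sq : IsPullback i fC p (Spec.map (CommRingCat.ofHom (algebraMap R (FractionRing R)))))
    (hC : topologicalKrullDim C ≤ 1) (x : X) : Order.coheight x ≤ 2 := by
  haveI : IsOpenImmersion i := MorphismProperty.of_isPullback sq.flip inferInstance
  obtain ⟨_, ⟨V : X.Opens, hV, rfl⟩, hxV, -⟩ :=
    X.isBasis_affineOpens.exists_subset_of_mem_open (Set.mem_univ x) isOpen_univ
  haveI : Nonempty V := ⟨⟨x, hxV⟩⟩
  let v : Spec Γ(X, V) ⟶ Spec (CommRingCat.of R) := hV.fromSpec ≫ p
  let φ := Spec.preimage v
  letI : Algebra R Γ(X, V) := φ.hom.toAlgebra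
  have hv : Spec.map (CommRingCat.ofHom (algebraMap R Γ(X, V))) = v := Spec.map_preimage v
  haveI : Algebra.FiniteType R Γ(X, V) := by
    have h1 : LocallyOfFiniteType (Spec.map (CommRingCat.ofHom (algebraMap R Γ(X, V)))) := by rw [hv]; infer_instance
    rw [HasRingHomProperty.Spec_iff (P := @LocallyOfFiniteType)] at h1
    exact RingHom.finiteType_algebraMap.mp h1
  haveI : Module.Flat R Γ(X, V) := by
    have h1 : Flat (Spec.map (CommRingCat.ofHom (algebraMap R Γ(X, V)))) := by rw [hv]; infer_instance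
    rw [HasRingHomProperty.Spec_iff (P := @Flat)] at h1
    exact RingHom.flat_algebraMap_iff.mp h1
  haveI : FaithfulSMul R Γ(X, V) := by
    refine (faithfulSMul_iff_algebraMap_injective _ _).mpr ((injective_iff_map_eq_zero _).mpr fun a ha => ?_)
    by_contra hne
    have h1 := IsSMulRegular.of_flat (S := Γ(X, V)) (IsRegular.of_ne_zero hne).left.isSMulRegular
    exact one_ne_zero (h1 (show algebraMap R Γ(X, V) a • (1 : Γ(X, V)) = algebraMap R Γ(X, V) a • 0 by rw [ha, zero_smul, zero_smul]))
  have hgen : ringKrullDim ((⊥ : Ideal R).Fiber Γ(X, V)) ≤ 1 := by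
    refine le_trans (le_of_eq (DimTrdegLib.topologicalKrullDim_fiber R Γ(X, V) ⟨⊥, Ideal.isPrime_bot⟩).symm) ?_
    rw [hv]
    let η : Spec (CommRingCat.of R) := (⟨⊥, Ideal.isPrime_bot⟩ : PrimeSpectrum R)
    have hmem : ∀ z : ↥(v.fiber η), hV.fromSpec (v.fiberι η z) ∈ Set.range i := by
      intro z
      have h1 : p (hV.fromSpec (v.fiberι η z)) = η := (v.range_fiberι η).le ⟨z, rfl⟩
      rw [range_of_isPullback sq]
      refine ⟨(⟨⊥, Ideal.isPrime_bot⟩ : PrimeSpectrum (FractionRing R)), ?_⟩
      rw [h1]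
      exact PrimeSpectrum.ext (Ideal.comap_bot_of_injective _ (IsFractionRing.injective R (FractionRing R)))
    let ψ : ↥(v.fiber η) → C := fun z => (hmem z).choose
    have hψ : ∀ z, i (ψ z) = hV.fromSpec (v.fiberι η z) := fun z => (hmem z).choose_spec
    have hind : Topology.IsInducing ψ := by
      have h1 : Topology.IsInducing (i ∘ ψ) := by
        rw [show (i : C → X) ∘ ψ = hV.fromSpec ∘ v.fiberι η from funext hψ]
        exact hV.fromSpec.isOpenEmbedding.isInducing.comp (v.fiberι η).isEmbedding.isInducing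
      exact Topology.IsInducing.of_comp_iff i.isOpenEmbedding.isInducing |>.mp h1
    exact hind.topologicalKrullDim_le.trans hC
  have hd := ringKrullDim_le_two_of_generic_le_one (R := R) Γ(X, V) hgen
  have hs : ringKrullDim (X.presheaf.stalk x) ≤ 2 := by
    rw [DimIneqLib.ringKrullDim_stalk hV x hxV]
    exact le_trans (Ideal.height_le_ringKrullDim_of_ne_top Ideal.IsPrime.ne_top') hd
  rw [ringKrullDim_stalk_eq_coheight] at hs
  exact WithBot.coe_le_coe.mp hs

theorem isClosed_of_two_le_coheight {X : Scheme.{u}} (h2 : ∀ z : X, Order.coheight z ≤ 2) (z : X)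
    (hz : 2 ≤ Order.coheight z) : IsClosed ({z} : Set X) := by
  refine closure_subset_iff_isClosed.1 fun y hy => ?_
  by_contra hne
  have hlt : y < z := lt_of_le_not_ge (specializes_iff_mem_closure.2 hy) fun h =>
    hne (((specializes_iff_mem_closure.2 hy).antisymm h).eq.symm)
  have h4 := (Order.coheight_add_one_le hlt).trans (h2 y)
  exact absurd ((add_le_add hz le_rfl).trans h4) (by decide)

end CurveFamNormLib
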