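import Groth.Agent.CurveFamNormLib.Centre
import Groth.Agent.CurveFamNormLib.ModelDim
import Groth.Agent.CDivCoreLib.Normal
import Groth.Agent.PtBlowLib.Divisorial
import Groth.Agent.S4808
import Groth.Prelude.Def_Pi1
import Mathlib

/-!
# A morphism of normal models from the centres of the components
-/

set_option autoImplicit false
set_option linter.style.haveILetI false
set_option backward.isDefEq.respectTransparency false
set_option backward.isDefEq.respectTransparency.types false
set_option maxHeartbeats 1000000

noncomputable section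

universe u

open CategoryTheory CategoryTheory.Limits AlgebraicGeometry IsLocalRing

namespace CurveFamNormLib

theorem finite_fibre_over_closed_point {X W S : Scheme.{u}} (pX : X ⟶ S) (pW : W ⟶ S) [IsProper pW]
    (w : W) (hw : IsClosed ({w} : Set W)) (x : X) :
    {y : ↥(pullback pX pW) | pullback.fst pX pW y = x ∧ pullback.snd pX pW y = w}.Finite := by
  let s := W.fromSpecResidueField w
  haveI : IsClosedImmersion s := .of_isPreimmersion _ (by rw [Scheme.range_fromSpecResidueField]; exact hw)
  haveI : IsProper (s ≫ pW) := inferInstance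
  haveI : LocallyQuasiFinite (s ≫ pW) := LocallyQuasiFinite.of_finite_preimage_singleton _ fun z =>
    (Set.toFinite (Set.univ : Set ↥(Spec (W.residueField w)))).subset (Set.subset_univ _)
  haveI : IsFinite (s ≫ pW) := IsFinite.of_isProper_of_locallyQuasiFinite _
  let q := pullback.snd pX pW
  have sq : IsPullback (q.fiberι w ≫ pullback.fst pX pW) (q.fiberToSpecResidueField w) pX (s ≫ pW) :=
    (show IsPullback (q.fiberι w) (q.fiberToSpecResidueField w) q s from IsPullback.of_hasPullback _ _).paste_horiz
      (IsPullback.of_hasPullback pX pW)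
  haveI : IsFinite (q.fiberι w ≫ pullback.fst pX pW) := MorphismProperty.of_isPullback sq.flip inferInstance
  refine (((q.fiberι w ≫ pullback.fst pX pW).finite_preimage_singleton x).image (q.fiberι w)).subset ?_
  rintro y ⟨hy1, hy2⟩
  obtain ⟨z, rfl⟩ := (q.range_fiberι w).ge hy2
  exact ⟨z, hy1, rfl⟩

variable {R : Type u} [CommRing R] [IsDomain R] [IsDiscreteValuationRing R]

local notation "ιK" => Spec.map (CommRingCat.ofHom (algebraMap R (FractionRing R)))

theorem not_closedPoint_iff_mem_range {X C : Scheme.{u}} {p : X ⟶ Spec (CommRingCat.of R)}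
    {fC : C ⟶ Spec (CommRingCat.of (FractionRing R))} {i : C ⟶ X} (sq : IsPullback i fC p ιK) (x : X) :
    x ∈ Set.range i ↔ p x ≠ closedPoint R := by
  rw [range_of_isPullback sq]
  constructor
  · rintro ⟨z, hz⟩ h
    rw [h] at hz
    have h1 := congrArg PrimeSpectrum.asIdeal hz
    change (PrimeSpectrum.asIdeal z).comap (algebraMap R (FractionRing R)) = maximalIdeal R at h1
    have hz0 : PrimeSpectrum.asIdeal z = ⊥ := Ideal.eq_bot_of_prime (h := z.2)
    rw [hz0, Ideal.comap_bot_of_injective _ (IsFractionRing.injective R (FractionRing R))] at h1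
    exact IsDiscreteValuationRing.not_a_field R h1.symm
  · intro h
    refine ⟨(⟨⊥, Ideal.isPrime_bot⟩ : PrimeSpectrum (FractionRing R)), PrimeSpectrum.ext ?_⟩
    refine (Ideal.comap_bot_of_injective _ (IsFractionRing.injective R (FractionRing R))).trans ?_
    refine (Classical.by_contradiction fun hne => h ?_)
    exact PrimeSpectrum.ext (eq_maximalIdeal (((p x).2).isMaximal_of_ne_bot fun h0 => hne h0.symm))

theorem exists_morphism {C X W : Scheme.{u}} [IsIntegral C] [IsIntegral X] [IsIntegral W]
    (fC : C ⟶ Spec (CommRingCat.of (FractionRing R))) [IsProper fC] (hdC : topologicalKrullDim C ≤ 1)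
    (hXn : Pi1.IsNormalScheme X)
    (pX : X ⟶ Spec (CommRingCat.of R)) (pW : W ⟶ Spec (CommRingCat.of R))
    [IsProper pX] [Flat pX] [IsProper pW] [Flat pW]
    (iX : C ⟶ X) (hiX : IsPullback iX fC pX ιK) (iW : C ⟶ W) (hiW : IsPullback iW fC pW ιK)
    (H : ∀ (ξ : W), pW ξ = closedPoint R → Order.coheight ξ ≤ 1 → ∀ (hξ : iW (genericPoint C) ⤳ ξ),
      ∃ (ξ' : X) (hξ' : iX (genericPoint C) ⤳ ξ'),
        Set.range (gk iX ξ' hξ').hom = Set.range (gk iW ξ hξ).hom) :
    ∃ φ : X ⟶ W, φ ≫ pW = pX ∧ iX ≫ φ = iW := by
  haveI : IsOpenImmersion iX := MorphismProperty.of_isPullback hiX.flip inferInstance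
  haveI : IsOpenImmersion iW := MorphismProperty.of_isPullback hiW.flip inferInstance
  haveI : QuasiCompact iX := MorphismProperty.of_isPullback hiX.flip inferInstance
  haveI : X.IsSeparated := ⟨by rw [← terminal.comp_from pX]; infer_instance⟩
  haveI : W.IsSeparated := ⟨by rw [← terminal.comp_from pW]; infer_instance⟩
  haveI : IsLocallyNoetherian X := LocallyOfFiniteType.isLocallyNoetherian pX
  haveI : IsLocallyNoetherian W := LocallyOfFiniteType.isLocallyNoetherian pW
  haveI : CompactSpace W := QuasiCompact.compactSpace_of_compactSpace pW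
  haveI : IsNoetherian W := {}
  let g : C ⟶ pullback pX pW := pullback.lift iX iW (by rw [hiX.w, hiW.w])
  have hg1 : g ≫ pullback.fst pX pW = iX := pullback.lift_fst _ _ _
  have hg2 : g ≫ pullback.snd pX pW = iW := pullback.lift_snd _ _ _
  haveI : QuasiCompact (g ≫ pullback.fst pX pW) := by rw [hg1]; infer_instance
  haveI : QuasiCompact g := QuasiCompact.of_comp g (pullback.fst pX pW)
  haveI : IsIntegral g.image := CycP1Lib.isIntegral_image g
  let j : C ⟶ g.image := g.toImage
  let p : g.image ⟶ X := g.imageι ≫ pullback.fst pX pW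
  let q : g.image ⟶ W := g.imageι ≫ pullback.snd pX pW
  have hjp : j ≫ p = iX := by rw [← Category.assoc, Scheme.Hom.toImage_imageι, hg1]
  have hjq : j ≫ q = iW := by rw [← Category.assoc, Scheme.Hom.toImage_imageι, hg2]
  have hpq : p ≫ pX = q ≫ pW := by simp [p, q, pullback.condition]
  haveI : IsProper p := inferInstance
  haveI : IsProper q := inferInstance
  haveI : (g.image).IsSeparated := ⟨by rw [← terminal.comp_from p]; infer_instance⟩
  have hj : j (genericPoint C) = genericPoint g.image :=
    (CycP1Lib.isGenericPoint_toImage g).eq (genericPoint_spec g.image)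
  have hiXg : iX (genericPoint C) = genericPoint X := genericPoint_eq_of_isOpenImmersion iX
  have hiWg : iW (genericPoint C) = genericPoint W := genericPoint_eq_of_isOpenImmersion iW
  have hjpg : (j ≫ p) (genericPoint C) = genericPoint X := by rw [hjp]; exact hiXg
  have hsp : ∀ γ : g.image, j (genericPoint C) ⤳ γ := fun γ => hj ▸ genericPoint_specializes γ
  haveI : IsIso ((j ≫ p).stalkMap (genericPoint C)) := by
    have key : ∀ h : C ⟶ X, h = iX → IsIso (h.stalkMap (genericPoint C)) := by rintro h rfl; infer_instance
    exact key _ hjp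
  have hcl : ∀ γ : g.image, pX (p γ) = pW (q γ) := fun γ => by
    rw [← Scheme.Hom.comp_apply, hpq, Scheme.Hom.comp_apply]
  -- the graph over the generic point
  have hgenfib : ∀ γ : g.image, pX (p γ) ≠ closedPoint R → ∃ c, j c = γ ∧ iX c = p γ := by
    intro γ hγ
    let π : pullback pX pW ⟶ Spec (CommRingCat.of R) := pullback.fst pX pW ≫ pX
    let g' : C ⟶ pullback π ιK := pullback.lift g fC (by rw [show π = pullback.fst pX pW ≫ pX from rfl, ← Category.assoc, hg1, hiX.w])
    haveI : IsSeparated π := inferInstance
    haveI : IsProper (g' ≫ pullback.snd π ιK) := by rw [pullback.lift_snd]; infer_instance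
    haveI : IsProper g' := IsProper.of_comp g' (pullback.snd π ιK)
    have hclosed : IsClosed (Set.range g') := g'.isClosedMap.isClosed_range
    have hr : Set.range g = pullback.fst π ιK '' Set.range g' := by
      rw [← Set.range_comp, ← TopCat.coe_comp, ← Scheme.Hom.comp_base, pullback.lift_fst]
    have hmem : g.imageι γ ∈ Set.range (pullback.fst π ιK) :=
      (not_closedPoint_iff_mem_range (IsPullback.of_hasPullback π ιK) _).mpr hγ
    have hcl' : g.imageι γ ∈ closure (Set.range g) := by
      have h0 : Set.range g.imageι = closure (Set.range g) := by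
        rw [Scheme.IdealSheafData.range_subschemeι, Scheme.Hom.support_ker]
      exact h0 ▸ ⟨γ, rfl⟩
    obtain ⟨y, hy⟩ := hmem
    have hy' : y ∈ Set.range g' := by
      rw [← hclosed.closure_eq, (pullback.fst π ιK).isEmbedding.closure_eq_preimage_closure_image, ← hr]
      exact Set.mem_preimage.mpr (hy ▸ hcl')
    obtain ⟨c, rfl⟩ := hy'
    have hc : g c = g.imageι γ := by rw [← hy, ← Scheme.Hom.comp_apply, pullback.lift_fst]
    have hjc : j c = γ := g.imageι.isEmbedding.injective (by rw [← Scheme.Hom.comp_apply, Scheme.Hom.toImage_imageι]; exact hc)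
    exact ⟨c, hjc, by rw [← hjp, Scheme.Hom.comp_apply, hjc]⟩
  have hdX := coheight_le_two pX hiX hdC
  have hdW := coheight_le_two pW hiW hdC
  have hfin : ∀ x : X, (p ⁻¹' {x}).Finite := by
    intro x
    by_cases hx : pX x = closedPoint R
    swap
    · refine (((Set.subsingleton_singleton (a := x)).preimage iX.isOpenEmbedding.injective).finite.image j).subset ?_
      intro γ hγ
      obtain ⟨c, hc, hc'⟩ := hgenfib γ (by rw [show p γ = x from hγ]; exact hx)
      exact ⟨c, hc'.trans hγ, hc⟩
    have hxg : x ≠ genericPoint X := fun h => by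
      have := (not_closedPoint_iff_mem_range hiX x).mp ⟨genericPoint C, hiXg.trans h.symm⟩
      exact this hx
    by_cases hx2 : Order.coheight x ≤ 1
    · have hx1 : Order.coheight x = 1 := by
        refine le_antisymm hx2 (Order.one_le_iff_pos.mpr (pos_iff_ne_zero.mpr fun h0 => hxg ?_))
        rw [Order.coheight_eq_zero] at h0
        exact ((genericPoint_specializes x).antisymm (h0 (genericPoint_specializes x))).eq.symm
      haveI := CDivCoreLib.isDVR_of_coheight hXn hx1
      refine Set.Subsingleton.finite fun γ₁ h₁ γ₂ h₂ => ?_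
      have e₁ : p γ₁ = x := h₁
      have e₂ : p γ₂ = x := h₂
      have hV : ∀ γ, p γ = x → ValuationRing (X.presheaf.stalk (p γ)) := by
        intro γ hγ; rw [hγ]; infer_instance
      haveI := hV γ₁ e₁; haveI := hV γ₂ e₂
      haveI : IsIso (p.stalkMap γ₁) := (ConcreteCategory.isIso_iff_bijective _).mpr
        (bijective_stalkMap_of_valuationRing j hj p hjpg γ₁ (hsp γ₁))
      have he : p γ₂ ⤳ p γ₁ := (e₂.trans e₁.symm).symm ▸ specializes_rfl
      have hiso : IsIso (X.presheaf.stalkSpecializes he) := by
        have key : ∀ (a b : X) (h : a ⤳ b), a = b → IsIso (X.presheaf.stalkSpecializes h) := by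
          rintro a b h rfl; simp only [TopCat.Presheaf.stalkSpecializes_refl]; infer_instance
        exact key _ _ he (e₂.trans e₁.symm)
      let φ : g.image.presheaf.stalk γ₁ ⟶ g.image.presheaf.stalk γ₂ :=
        inv (p.stalkMap γ₁) ≫ X.presheaf.stalkSpecializes he ≫ p.stalkMap γ₂
      haveI : IsLocalHom φ.hom := by
        simp only [φ, CommRingCat.hom_comp]
        haveI := hiso
        infer_instance
      refine (centre_unique j hj (𝟙 _) γ₂ (hsp γ₂) γ₁ (by simpa using hsp γ₁) φ ?_).symm
      rw [gk_congr (Category.comp_id j) γ₁ _ (hsp γ₁)]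
      simp only [φ, Category.assoc]
      rw [gk_comp j p γ₂ (hsp γ₂) ((hsp γ₂).map p.continuous), IsIso.inv_comp_eq,
        gk_comp j p γ₁ (hsp γ₁) ((hsp γ₁).map p.continuous)]
      exact TopCat.Presheaf.stalkSpecializes_comp_assoc _ _ _ _
    · have hx2' : 2 ≤ Order.coheight x := by
        have := Order.add_one_le_of_lt (not_le.mp hx2)
        exact le_trans (by norm_num) this
      have hxc : IsClosed ({x} : Set X) := isClosed_of_two_le_coheight hdX x hx2'
      have hqc : IsClosed (q '' (p ⁻¹' {x})) := q.isClosedMap _ (hxc.preimage p.continuous)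
      have hqpts : ∀ w ∈ q '' (p ⁻¹' {x}), IsClosed ({w} : Set W) := by
        rintro _ ⟨γ, hγ, rfl⟩
        refine isClosed_of_two_le_coheight hdW _ ?_
        by_contra hc
        have hw1 : Order.coheight (q γ) ≤ 1 := by
          have hlt := not_le.mp hc
          rw [show (2 : ℕ∞) = 1 + 1 from by norm_num] at hlt
          exact (ENat.lt_add_one_iff ENat.one_ne_top).mp hlt
        have hwcl : pW (q γ) = closedPoint R := by rw [← hcl, show p γ = x from hγ]; exact hx
        have hξ : iW (genericPoint C) ⤳ q γ := hiWg ▸ genericPoint_specializes _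
        obtain ⟨ξ', hξ', hrange⟩ := H (q γ) hwcl hw1 hξ
        have i1 := gk_injective iX hiXg ξ' hξ'
        have i2 := gk_injective iW hiWg (q γ) hξ
        let e : X.presheaf.stalk ξ' ≃+* W.presheaf.stalk (q γ) :=
          ((RingEquiv.ofLeftInverse (Function.leftInverse_invFun i1)).trans
            (RingEquiv.subringCongr (SetLike.coe_injective (by simpa using hrange)))).trans
            (RingEquiv.ofLeftInverse (Function.leftInverse_invFun i2)).symm
        have he : ∀ a, (gk iW (q γ) hξ).hom (e a) = (gk iX ξ' hξ').hom a := fun a =>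
          congrArg Subtype.val ((RingEquiv.ofLeftInverse (Function.leftInverse_invFun i2)).apply_symm_apply _)
        let φ : X.presheaf.stalk ξ' ⟶ g.image.presheaf.stalk γ := CommRingCat.ofHom e.toRingHom ≫ q.stalkMap γ
        haveI : IsLocalHom φ.hom := by
          simp only [φ, CommRingCat.hom_comp, CommRingCat.hom_ofHom]
          haveI : IsLocalHom e.toRingHom := inferInstanceAs (IsLocalHom (e : X.presheaf.stalk ξ' →+* W.presheaf.stalk (q γ)))
          infer_instance
        have hξ'' : (j ≫ p) (genericPoint C) ⤳ ξ' := by rw [hjp]; exact hξ'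
        have hxe : p γ = ξ' := by
          refine centre_unique j hj p γ (hsp γ) ξ' hξ'' φ ?_
          rw [gk_congr hjp ξ' hξ'' hξ']
          simp only [φ, Category.assoc]
          rw [gk_comp j q γ (hsp γ) (by rw [hjq]; exact hξ), gk_congr hjq (q γ) _ hξ]
          ext a
          exact he a
        have hd : (Order.coheight ξ' : WithBot ℕ∞) = Order.coheight (q γ) := by
          rw [← ringKrullDim_stalk_eq_coheight, ← ringKrullDim_stalk_eq_coheight, ringKrullDim_eq_of_ringEquiv e]
        rw [← hxe, show p γ = x from hγ] at hd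
        exact hx2 ((WithBot.coe_inj.mp hd).le.trans hw1)
      have hqfin : (q '' (p ⁻¹' {x})).Finite := PtBlowLib.finite_of_closedPoints hqc hqpts
      refine ((hqfin.biUnion fun w hw => finite_fibre_over_closed_point pX pW w (hqpts w hw) x).preimage
        g.imageι.isEmbedding.injective.injOn).subset ?_
      intro γ hγ
      simp only [Set.mem_preimage, Set.mem_iUnion]
      exact ⟨q γ, ⟨γ, hγ, rfl⟩, by rw [← Scheme.Hom.comp_apply]; exact hγ, rfl⟩
  haveI : LocallyQuasiFinite p := LocallyQuasiFinite.of_finite_preimage_singleton _ hfin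
  haveI : IsFinite p := IsFinite.of_isProper_of_locallyQuasiFinite _
  have hbir : IsIso (p.stalkMap (genericPoint g.image)) := by
    have h1 : IsIso (p.stalkMap (j (genericPoint C))) := by
      have hc := Scheme.Hom.stalkMap_comp j p (genericPoint C)
      have hbij := ConcreteCategory.bijective_of_isIso ((j ≫ p).stalkMap (genericPoint C))
      rw [hc] at hbij
      have hfld : ∀ η, η = genericPoint g.image → IsField (g.image.presheaf.stalk η) := by
        rintro η rfl; exact Field.toIsField g.image.functionField
      letI := (hfld _ hj).toField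
      have hinj : Function.Injective (j.stalkMap (genericPoint C)).hom := RingHom.injective _
      refine (ConcreteCategory.isIso_iff_bijective _).mpr ⟨fun a b h => hbij.1 ?_, fun b => ?_⟩
      · exact congrArg (j.stalkMap (genericPoint C)).hom h
      · obtain ⟨a, ha⟩ := hbij.2 ((j.stalkMap (genericPoint C)).hom b)
        exact ⟨a, hinj ha⟩
    have key : ∀ η, η = genericPoint g.image → IsIso (p.stalkMap η) → IsIso (p.stalkMap (genericPoint g.image)) := by
      rintro η rfl h; exact h
    exact key _ hj h1
  have hpg : p (genericPoint g.image) = genericPoint X := by rw [← hj, ← Scheme.Hom.comp_apply, hjpg]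
  haveI := Groth.Agent.S4808.result (fun y => (hXn y).2) p hpg hbir
  refine ⟨inv p ≫ q, by rw [Category.assoc, IsIso.inv_comp_eq, hpq], ?_⟩
  rw [← hjp, Category.assoc, IsIso.hom_inv_id_assoc, hjq]

end CurveFamNormLib
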